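import Mathlib
import Cfsg.Prelude.Def_GeometricClasses
import Cfsg.Agent.Helper13.SpMax1

/-!
# Normalisers of the extraspecial group `2^{1+4}_-` in `Sp_4(p)` (for S6002): definitions

A *Clifford frame* is a family of four pairwise anticommuting involutions of `GL_4(F)`.
-/

set_option autoImplicit false
set_option linter.unusedSectionVars false
set_option linter.unusedVariables false

namespace Cfsg.Agent.Helper43.XS

open Matrix Cfsg Cfsg.Geo

variable {F : Type*} [Field F]

local notation "Mat" => Matrix (Fin 2 ⊕ Fin 2) (Fin 2 ⊕ Fin 2) F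
local notation "GLn" => GL (Fin 2 ⊕ Fin 2) F

/-- four pairwise anticommuting involutions -/
structure IsFrame (S : Fin 4 → GLn) : Prop where
  sq : ∀ i, S i * S i = 1
  anti : ∀ i j, i ≠ j → S i * S j = -(S j * S i)

/-- the fifth involution `S₀S₁S₂S₃` -/
def S5 (S : Fin 4 → GLn) : GLn := S 0 * S 1 * S 2 * S 3

/-- the five pairwise anticommuting involutions -/
def ext5 (S : Fin 4 → GLn) : Fin 5 → GLn := Fin.snoc (α := fun _ => GLn) S (S5 S)

/-- the sixteen products -/
def prodW (S : Fin 4 → GLn) (w : Fin 4 → Bool) : GLn :=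
  (if w 0 then S 0 else 1) * (if w 1 then S 1 else 1) * (if w 2 then S 2 else 1) *
    (if w 3 then S 3 else 1)

theorem ext5_castSucc (S : Fin 4 → GLn) (i : Fin 4) : ext5 S i.castSucc = S i := by
  simp [ext5]

theorem ext5_last (S : Fin 4 → GLn) : ext5 S (Fin.last 4) = S5 S := by
  unfold ext5
  exact Fin.snoc_last (α := fun _ => GLn) (S5 S) S

theorem ext5_four (S : Fin 4 → GLn) : ext5 S 4 = S5 S := ext5_last S

theorem ext5_zero (S : Fin 4 → GLn) : ext5 S 0 = S 0 := ext5_castSucc S 0
theorem ext5_one (S : Fin 4 → GLn) : ext5 S 1 = S 1 := ext5_castSucc S 1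
theorem ext5_two (S : Fin 4 → GLn) : ext5 S 2 = S 2 := ext5_castSucc S 2
theorem ext5_three (S : Fin 4 → GLn) : ext5 S 3 = S 3 := ext5_castSucc S 3

theorem val_neg_GL (g : GLn) : ((-g : GLn) : Mat) = -(g : Mat) := rfl

theorem neg_one_mul_GL (g : GLn) : (-1 : GLn) * g = -g := by
  apply Units.ext; simp

theorem neg_mul_neg_GL (g h : GLn) : (-g) * (-h) = g * h := by
  apply Units.ext; simp

end Cfsg.Agent.Helper43.XS
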