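import Mathlib
import Cfsg.Agent.Helper43.XS.Defs
import Cfsg.Agent.Helper81.XSA3
import Cfsg.Agent.Helper81.XSX5c
import Cfsg.Agent.Helper81.XSX5a
import Cfsg.Agent.Helper81.XSX3
import Cfsg.Agent.Helper31.XSC1
import Cfsg.Agent.Helper68.XSG1b
import Cfsg.Agent.Helper87.XSL2CNT
import Cfsg.Agent.Helper31.XSA2
import Cfsg.Agent.Helper68.XSG1a
import Cfsg.Agent.Helper66.XSINV
import Cfsg.Agent.Helper66.XSG1c
import Cfsg.Agent.Helper66.XSDIST
import Cfsg.Agent.Helper41.XSL1c
import Cfsg.Agent.Helper41.XSL1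
import Cfsg.Agent.Helper63.XSL3
import Cfsg.Agent.Helper59.XSX1
import Cfsg.Agent.Helper59.XSP
import Cfsg.Agent.Helper55.XSAR
import Cfsg.Agent.Helper55.XSA1f
import Cfsg.Agent.Helper55.XSX5b
import Cfsg.Agent.Helper55.XSC2
import Cfsg.Agent.Helper31.XSA4
import Cfsg.Agent.Helper41.XSF5

/-!
# S6002: the leaf pieces (collected from the team; see the individual files)
-/

set_option autoImplicit false
set_option linter.unusedSectionVars false
set_option linter.unusedVariables false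

namespace Cfsg.Agent.Helper43.XS

open Matrix Cfsg Cfsg.Geo

variable {F : Type*} [Field F]

local notation "Mat" => Matrix (Fin 2 ⊕ Fin 2) (Fin 2 ⊕ Fin 2) F
local notation "GLn" => GL (Fin 2 ⊕ Fin 2) F
local notation "Vec" => (Fin 2 ⊕ Fin 2 → F)

/-! ## (G) abstract group theory -/

/-- (G1a) a group of order 32, exponent 4, centre of order 2, all of whose characteristic abelian
subgroups are cyclic: all squares are central -/
theorem sq_mem_center_of_symplectic_type {G : Type*} [Group G] (hcard : Nat.card G = 32)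
    (hexp : Monoid.exponent G = 4) (hZ : Nat.card (Subgroup.center G) = 2)
    (hchar : ∀ A : Subgroup G, A.Characteristic → IsMulCommutative A → IsCyclic A) :
    ∀ x : G, x * x ∈ Subgroup.center G :=
  Cfsg.Agent.Helper68.XS.sq_mem_center_of_symplectic_type hcard hexp hZ hchar

/-- (G1b) a group of order 32 with centre `{1, z}` of order 2 and all squares central, having no
elementary abelian subgroup of order 8, is `Q8 ∘ D8`: standard generators -/
theorem exists_std_generators {G : Type*} [Group G] (hcard : Nat.card G = 32)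
    (hZ : Nat.card (Subgroup.center G) = 2) (hsq : ∀ x : G, x * x ∈ Subgroup.center G)
    (hminus : ∀ A : Subgroup G, IsMulCommutative A → (∀ x ∈ A, x * x = 1) → Nat.card A < 2 ^ 3) :
    ∃ z a b c d : G, z ≠ 1 ∧ z ∈ Subgroup.center G ∧ z * z = 1 ∧
      a * a = z ∧ b * b = z ∧ a * b = z * (b * a) ∧
      c * c = z ∧ d * d = 1 ∧ d ≠ 1 ∧ d ≠ z ∧ c * d = z * (d * c) ∧
      a * c = c * a ∧ a * d = d * a ∧ b * c = c * b ∧ b * d = d * b :=
  Cfsg.Agent.Helper68.XS.exists_std_generators hcard hZ hsq hminus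

/-- (G1c) from the standard generators to a frame (pure group computation; `z` central of order 2) -/
theorem frame_of_std_generators {G : Type*} [Group G] {z a b c d : G}
    (hz : ∀ g : G, z * g = g * z) (hzz : z * z = 1)
    (ha : a * a = z) (hb : b * b = z) (hab : a * b = z * (b * a))
    (hc : c * c = z) (hd : d * d = 1) (hcd : c * d = z * (d * c))
    (hac : a * c = c * a) (had : a * d = d * a) (hbc : b * c = c * b) (hbd : b * d = d * b) :
    let s : Fin 4 → G := ![d, c * d, a * c, b * c]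
    (∀ i, s i * s i = 1) ∧ ∀ i j, i ≠ j → s i * s j = z * (s j * s i) :=
  Cfsg.Agent.Helper66.XS.frame_of_std_generators hz hzz ha hb hab hc hd hcd hac had hbc hbd

/-! ## (L) linear algebra of frames -/

/-- (F5) the five involutions `S₀,…,S₃,S₀S₁S₂S₃` pairwise anticommute -/
theorem five_of_frame {S : Fin 4 → GLn} (hS : IsFrame S) :
    (∀ i : Fin 5, ext5 S i * ext5 S i = 1) ∧
      ∀ i j : Fin 5, i ≠ j → ext5 S i * ext5 S j = -(ext5 S j * ext5 S i) :=
  Cfsg.Agent.Helper41.XS.five_of_frame hS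

/-- (L1) the sixteen products are linearly independent -/
theorem prodW_linearIndependent (h2 : (2 : F) ≠ 0) {S : Fin 4 → GLn} (hS : IsFrame S) :
    LinearIndependent F (fun w : Fin 4 → Bool => ((prodW S w : GLn) : Mat)) :=
  Cfsg.Agent.Helper41.XS.prodW_linearIndependent h2 hS

/-- (L1c) a matrix commuting with a frame is a scalar -/
theorem scalar_of_commute_frame (h2 : (2 : F) ≠ 0) {S : Fin 4 → GLn} (hS : IsFrame S) (M : Mat)
    (hM : ∀ i, M * (S i : Mat) = (S i : Mat) * M) : ∃ c : F, M = c • (1 : Mat) :=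
  Cfsg.Agent.Helper41.XS.scalar_of_commute_frame h2 hS M hM

/-- (CNT) a group of order 32 containing a frame consists of the 32 signed products -/
theorem mem_iff_of_frame (h2 : (2 : F) ≠ 0) {S : Fin 4 → GLn} (hS : IsFrame S)
    (R : Subgroup GLn) (hSR : ∀ i, S i ∈ R) (hR5 : Nat.card R = 2 ^ 5) :
    ∀ g : GLn, g ∈ R ↔ ∃ w, g = prodW S w ∨ g = -prodW S w :=
  Cfsg.Agent.Helper87.XS.mem_iff_of_frame h2 hS R hSR hR5

/-- (INV) the non-central involutions among the signed products are `±` the five -/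
theorem involution_of_prodW (h2 : (2 : F) ≠ 0) {S : Fin 4 → GLn} (hS : IsFrame S)
    (w : Fin 4 → Bool) (hw : prodW S w * prodW S w = 1) :
    prodW S w = 1 ∨ ∃ i : Fin 5, prodW S w = ext5 S i ∨ prodW S w = -ext5 S i :=
  Cfsg.Agent.Helper66.XS.involution_of_prodW h2 hS w hw

/-- (DIST) the five are distinct up to sign, and not `±1` -/
theorem ext5_injective (h2 : (2 : F) ≠ 0) {S : Fin 4 → GLn} (hS : IsFrame S) :
    (∀ i j : Fin 5, (ext5 S i = ext5 S j ∨ ext5 S i = -ext5 S j) → i = j) ∧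
      ∀ i : Fin 5, ext5 S i ≠ 1 ∧ ext5 S i ≠ -1 :=
  Cfsg.Agent.Helper66.XS.ext5_injective h2 hS

/-- (L2) any two frames are conjugate in `GL_4(F)` (Skolem–Noether) -/
theorem exists_conj_frames (h2 : (2 : F) ≠ 0) {S S' : Fin 4 → GLn} (hS : IsFrame S)
    (hS' : IsFrame S') : ∃ g : GLn, ∀ i, g * S i * g⁻¹ = S' i :=
  Cfsg.Agent.Helper87.XS.exists_conj_frames h2 hS hS'

/-- (L3) a matrix conjugating a symplectic frame to a symplectic frame is a similitude -/
theorem exists_multiplier (h2 : (2 : F) ≠ 0) {S S' : Fin 4 → GLn} (hS : IsFrame S)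
    (hSp : ∀ i, S i ∈ Cfsg.spGL 2 F) (hSp' : ∀ i, S' i ∈ Cfsg.spGL 2 F) (g : GLn)
    (hg : ∀ i, g * S i * g⁻¹ = S' i) :
    ∃ c : F, c ≠ 0 ∧ ∀ u v : Vec,
      Cfsg.sympForm 2 F ((g : Mat) *ᵥ u) ((g : Mat) *ᵥ v) = c * Cfsg.sympForm 2 F u v :=
  Cfsg.Agent.Helper63.XS.exists_multiplier_of (fun M hM => scalar_of_commute_frame h2 hS M hM) hSp hSp' g hg

/-! ## (A) the action of the normaliser on the ten non-central involutions -/

/-- (A1f) at a fixed point of `σ` and for `y` of odd order, `y` commutes with the involution -/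
theorem commute_of_fixed {E : GLn} (y : GLn) (hy : y * E * y⁻¹ = E ∨ y * E * y⁻¹ = -E) (n : ℕ)
    (hn : Odd n) (hyn : y ^ n = 1) (h2 : (2 : F) ≠ 0) : y * E = E * y :=
  Cfsg.Agent.Helper55.XS.commute_of_fixed y hy n hn hyn h2

/-- (P3) a permutation of five points with `σ ^ 3 = 1` has two fixed points -/
theorem perm_cube (σ : Equiv.Perm (Fin 5)) (h : σ ^ 3 = 1) :
    ∃ i j : Fin 5, i ≠ j ∧ σ i = i ∧ σ j = j :=
  Cfsg.Agent.Helper59.XS.perm_cube σ h

/-- (P5) a non-trivial permutation of five points with `σ ^ 5 = 1` is a 5-cycle -/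
theorem perm_five (σ : Equiv.Perm (Fin 5)) (h : σ ^ 5 = 1) (h1 : σ ≠ 1) :
    (∀ i, σ i ≠ i) ∧ ∀ i, σ (σ i) ≠ i :=
  Cfsg.Agent.Helper59.XS.perm_five σ h h1

/-- (P7) a permutation of five points of order dividing a prime `r ≥ 7` is trivial -/
theorem perm_large (σ : Equiv.Perm (Fin 5)) (r : ℕ) (hr : r.Prime) (hr2 : r ≠ 2) (hr3 : r ≠ 3)
    (hr5 : r ≠ 5) (h : σ ^ r = 1) : σ = 1 :=
  Cfsg.Agent.Helper59.XS.perm_large σ r hr hr2 hr3 hr5 h

/-- (A2) a matrix commuting with two anticommuting involutions is `diag(A, A)` -/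
theorem quadratic_of_commute (h2 : (2 : F) ≠ 0) {E E' : GLn} (hE : E * E = 1) (hE' : E' * E' = 1)
    (hanti : E * E' = -(E' * E)) (y : GLn) (hyE : y * E = E * y) (hyE' : y * E' = E' * y) :
    (∃ α β : F, (y : Mat) * (y : Mat) = α • (y : Mat) + β • (1 : Mat)) ∧
      Even ((y : Mat) - 1).rank :=
  Cfsg.Agent.Helper31.XS.quadratic_of_commute h2 hE hE' hanti y hyE hyE'

/-- (A3) the trace identity for an element inducing a 5-cycle -/
theorem trace_mul_trace (h2 : (2 : F) ≠ 0) {S : Fin 4 → GLn} (hS : IsFrame S) (y : GLn)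
    (σ : Equiv.Perm (Fin 5)) (hσ1 : ∀ i, σ i ≠ i) (hσ2 : ∀ i, σ (σ i) ≠ i)
    (hσ : ∀ i, y * ext5 S i * y⁻¹ = ext5 S (σ i) ∨ y * ext5 S i * y⁻¹ = -ext5 S (σ i)) :
    Matrix.trace (y : Mat) * Matrix.trace ((y⁻¹ : GLn) : Mat) = 1 :=
  Cfsg.Agent.Helper81.XS.trace_mul_trace h2 hS y σ hσ1 hσ2 hσ

/-- (A4) an element with `rank (y - 1) ≤ 1` cannot move an involution to an anticommuting one -/
theorem false_of_rank_le_one (h2 : (2 : F) ≠ 0) {E E' : GLn} (hE : E * E = 1) (hE' : E' * E' = 1)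
    (hanti : E * E' = -(E' * E)) (y : GLn) (hrank : ((y : Mat) - 1).rank ≤ 1)
    (hconj : y * E * y⁻¹ = E' ∨ y * E * y⁻¹ = -E') : False :=
  Cfsg.Agent.Helper31.XS.false_of_rank_le_one h2 hE hE' hanti y hrank hconj

/-! ## (X) explicit elements -/

/-- the embedding of `2 × 2` matrices on the hyperbolic plane `⟨e₀, f₀⟩` -/
def embed2 (a b c d : F) : Mat :=
  Matrix.fromBlocks (Matrix.diagonal ![a, 1]) (Matrix.diagonal ![b, 0])
    (Matrix.diagonal ![c, 0]) (Matrix.diagonal ![d, 1])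

/-- (X1) `embed2` is multiplicative, unital, and symplectic for determinant 1 -/
theorem embed2_mul (a b c d a' b' c' d' : F) :
    embed2 a b c d * embed2 a' b' c' d' =
      embed2 (a * a' + b * c') (a * b' + b * d') (c * a' + d * c') (c * b' + d * d') :=
  Cfsg.Agent.Helper59.XS.embed2_mul a b c d a' b' c' d'

theorem embed2_one : embed2 (1 : F) 0 0 1 = 1 :=
  Cfsg.Agent.Helper59.XS.embed2_one

theorem embed2_mem {g : GLn} {a b c d : F} (hg : (g : Mat) = embed2 a b c d)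
    (hdet : a * d - b * c = 1) : g ∈ Cfsg.spGL 2 F :=
  Cfsg.Agent.Helper59.XS.embed2_mem hg hdet

/-- (X3) the explicit element of order 3 -/
theorem exists_x3 (h2 : (2 : F) ≠ 0) :
    ∃ x ∈ Cfsg.spGL 2 F, x ^ 3 = 1 ∧ (∀ z : F, (x : Mat) ≠ z • (1 : Mat)) ∧
      ¬ ((∃ α β : F, (x : Mat) * (x : Mat) = α • (x : Mat) + β • (1 : Mat)) ∧
        Even ((x : Mat) - 1).rank) :=
  Cfsg.Agent.Helper81.XS.exists_x3 h2

/-- (X5a) an element of order 5 of `SL_2(p)` when `5 ∣ p² - 1` -/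
theorem exists_sl2_five [Fintype F] {p : ℕ} [Fact p.Prime] [CharP F p] (hF : Fintype.card F = p)
    (h5 : 5 ∣ p ^ 2 - 1) :
    ∃ u : Matrix (Fin 2) (Fin 2) F, u.det = 1 ∧ u ^ 5 = 1 ∧ u ≠ 1 :=
  Cfsg.Agent.Helper81.XS.exists_sl2_five hF h5

/-- (X5b) arithmetic of the trace of an element of order 5 of `SL_2` -/
theorem false_of_trace_sq (h5 : (5 : F) ≠ 0) (u : Matrix (Fin 2) (Fin 2) F) (hdet : u.det = 1)
    (hu5 : u ^ 5 = 1) (hu1 : u ≠ 1) (htr : (2 + u.trace) * (2 + u.trace) = 1) : False :=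
  Cfsg.Agent.Helper55.XS.false_of_trace_sq h5 u hdet hu5 hu1 htr

/-- (X5c) the transvection in characteristic 5 -/
theorem exists_x5_char [CharP F 5] :
    ∃ x ∈ Cfsg.spGL 2 F, x ^ 5 = 1 ∧ (∀ z : F, (x : Mat) ≠ z • (1 : Mat)) ∧
      ((x : Mat) - 1).rank ≤ 1 :=
  Cfsg.Agent.Helper81.XS.exists_x5_char

/-- (AR) arithmetic: the order of `p` modulo 5 -/
theorem ord_five_cases {p : ℕ} (hp : p.Prime) (h : orderOf (p : ZMod 5) ≠ 4) :
    p = 5 ∨ 5 ∣ p ^ 2 - 1 :=
  Cfsg.Agent.Helper55.XS.ord_five_cases hp h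

/-! ## (C) Sylow 5-subgroups -/

/-- (C1) when `p` has order 4 modulo 5, every 5-subgroup of `GL_4(p)` is cyclic -/
theorem isCyclic_of_five_group [Fintype F] {p : ℕ} [Fact p.Prime] [CharP F p]
    (hF : Fintype.card F = p) (hord : orderOf (p : ZMod 5) = 4) (P : Subgroup GLn)
    (hP : IsPGroup 5 P) : IsCyclic P :=
  Cfsg.Agent.Helper31.XS.isCyclic_of_five_group hF hord P hP

/-- (C2) in a finite group whose `q`-subgroups are all cyclic, any element of order `q` is
conjugate into the subgroup generated by any other -/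
theorem conj_mem_zpowers_of_cyclic {G : Type*} [Group G] [Finite G] (q : ℕ) [Fact q.Prime]
    (hcyc : ∀ P : Subgroup G, IsPGroup q P → IsCyclic P) (x y : G) (hx : x ^ q = 1) (hx1 : x ≠ 1)
    (hy : y ^ q = 1) (hy1 : y ≠ 1) : ∃ g : G, g⁻¹ * x * g ∈ Subgroup.zpowers y :=
  Cfsg.Agent.Helper55.XS.conj_mem_zpowers_of_cyclic q hcyc x y hx hx1 hy hy1

/-! ## the frame inside `R` -/

/-- (G1) the frame inside `R` -/
theorem exists_frame_of_group (h2 : (2 : F) ≠ 0) (R : Subgroup GLn)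
    (hRs : Cfsg.Geo.IsSymplecticTypeGroup 2 R)
    (hRi : Cfsg.Geo.ActsAbsolutelyIrreducibly (Cfsg.Geo.matrixSet R))
    (hR5 : Nat.card R = 2 ^ 5) (hRZ : Nat.card (Subgroup.center R) = 2)
    (hRm : Cfsg.Geo.IsOfMinusType 2 R) :
    ∃ S : Fin 4 → GLn, IsFrame S ∧ ∀ i, S i ∈ R := by
  classical
  have hcard : Nat.card R = 32 := by rw [hR5]; norm_num
  have hexp : Monoid.exponent R = 4 := by rw [hRs.exponent_eq]; decide
  have hsq := sq_mem_center_of_symplectic_type hcard hexp hRZ hRs.cyclic_of_characteristic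
  obtain ⟨z, a, b, c, d, hz1, hzc, hzz, ha, hb, hab, hc, hd, hd1, hdz, hcd, hac, had, hbc, hbd⟩ :=
    exists_std_generators hcard hRZ hsq (fun A hA hx => hRm A hA hx)
  have hz : ∀ g : R, z * g = g * z := fun g => ((Subgroup.mem_center_iff.1 hzc) g).symm
  -- `z = -1`
  have hzneg : ((z : R) : GLn) = -1 := by
    have hcomm : ∀ s ∈ Cfsg.Geo.matrixSet R, (((z : R) : GLn) : Mat) * s = s * (((z : R) : GLn) : Mat) := by
      rintro _ ⟨g, hg, rfl⟩
      have := congrArg (fun t : R => ((t : GLn) : Mat)) (hz ⟨g, hg⟩)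
      simpa using this
    obtain ⟨k, hk⟩ := hRi.2 _ hcomm
    have hzz' : (((z : R) : GLn) : Mat) * (((z : R) : GLn) : Mat) = 1 := by
      have := congrArg (fun t : R => ((t : GLn) : Mat)) hzz
      simpa using this
    have h1 : (1 : Mat) ≠ 0 := one_ne_zero
    have hkk : k * k = 1 := by
      rw [hk, Matrix.smul_mul, Matrix.mul_smul, Matrix.one_mul, smul_smul] at hzz'
      have h0 : (k * k - 1) • (1 : Mat) = 0 := by rw [sub_smul, hzz', one_smul, sub_self]
      rcases smul_eq_zero.1 h0 with h | h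
      · exact sub_eq_zero.1 h
      · exact absurd h h1
    rcases mul_self_eq_one_iff.1 hkk with rfl | rfl
    · exfalso
      apply hz1
      apply Subtype.ext
      apply Units.ext
      rw [hk, one_smul]; rfl
    · apply Units.ext
      rw [hk, neg_smul, one_smul]; rfl
  obtain ⟨hs1, hs2⟩ := frame_of_std_generators hz hzz ha hb hab hc hd hcd hac had hbc hbd
  refine ⟨fun i => ((![d, c * d, a * c, b * c] i : R) : GLn), ⟨?_, ?_⟩, fun i => Subtype.property _⟩
  · intro i
    have := congrArg (fun t : R => (t : GLn)) (hs1 i)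
    simpa using this
  · intro i j hij
    have := congrArg (fun t : R => (t : GLn)) (hs2 i j hij)
    simp only [Subgroup.coe_mul] at this
    rw [this, hzneg, neg_one_mul_GL]

end Cfsg.Agent.Helper43.XS
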