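import Mathlib
import Cfsg.Agent.Helper43.XS.Leaves

/-!
(piece written by helper59 for helper43's S6002 farm; copied here unchanged except for the namespace)
# S6002 piece (A1) for helper43: the normaliser permutes the five involutions up to sign (helper59)
-/

set_option autoImplicit false
set_option linter.unusedSectionVars false
set_option linter.unusedVariables false

namespace Cfsg.Agent.Helper43.XS.P59a

open Matrix Cfsg Cfsg.Geo Cfsg.Agent.Helper43.XS

variable {F : Type*} [Field F]

local notation "Mat" => Matrix (Fin 2 ⊕ Fin 2) (Fin 2 ⊕ Fin 2) F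
local notation "GLn" => GL (Fin 2 ⊕ Fin 2) F
local notation "Vec" => (Fin 2 ⊕ Fin 2 → F)

theorem ext5_mem {S : Fin 4 → GLn} (R : Subgroup GLn) (hSR : ∀ i, S i ∈ R) (i : Fin 5) :
    ext5 S i ∈ R := by
  refine Fin.lastCases ?_ (fun k => ?_) i
  · rw [ext5_last]
    exact R.mul_mem (R.mul_mem (R.mul_mem (hSR 0) (hSR 1)) (hSR 2)) (hSR 3)
  · rw [ext5_castSucc]
    exact hSR k

theorem conj_neg_GL (y g : GLn) : y * (-g) * y⁻¹ = -(y * g * y⁻¹) := by
  rw [mul_neg, neg_mul]

/-- (A1) an element of the normaliser permutes the five involutions up to sign -/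
theorem exists_perm (h2 : (2 : F) ≠ 0) {S : Fin 4 → GLn} (hS : IsFrame S)
    (R : Subgroup GLn) (hSR : ∀ i, S i ∈ R) (hR5 : Nat.card R = 2 ^ 5)
    (y : GLn) (hy : y ∈ Cfsg.Geo.subgroupNormalizer R) :
    ∃ σ : Equiv.Perm (Fin 5), ∀ i,
      y * ext5 S i * y⁻¹ = ext5 S (σ i) ∨ y * ext5 S i * y⁻¹ = -ext5 S (σ i) := by
  classical
  obtain ⟨h5sq, h5anti⟩ := five_of_frame hS
  obtain ⟨hinj, hne⟩ := ext5_injective h2 hS
  have hy' : y ∈ Subgroup.normalizer (R : Set GLn) := hy
  rw [Subgroup.mem_normalizer_iff] at hy'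
  have hmem := mem_iff_of_frame h2 hS R hSR hR5
  -- conjugation back
  have hback : ∀ a b : GLn, y * a * y⁻¹ = b → a = y⁻¹ * b * y := by
    intro a b h
    rw [← h]; group
  have hex : ∀ i : Fin 5, ∃ j : Fin 5,
      y * ext5 S i * y⁻¹ = ext5 S j ∨ y * ext5 S i * y⁻¹ = -ext5 S j := by
    intro i
    have h1 : y * ext5 S i * y⁻¹ ∈ R := (hy' _).1 (ext5_mem R hSR i)
    have hsq : (y * ext5 S i * y⁻¹) * (y * ext5 S i * y⁻¹) = 1 := by
      calc (y * ext5 S i * y⁻¹) * (y * ext5 S i * y⁻¹)
          = y * (ext5 S i * ext5 S i) * y⁻¹ := by group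
        _ = 1 := by rw [h5sq i]; group
    obtain ⟨w, hw⟩ := (hmem _).1 h1
    have hwsq : prodW S w * prodW S w = 1 := by
      rcases hw with hw | hw
      · rw [← hw]; exact hsq
      · rw [← neg_mul_neg_GL, ← hw]; exact hsq
    rcases involution_of_prodW h2 hS w hwsq with h1' | ⟨j, hj⟩
    · exfalso
      rw [h1'] at hw
      rcases hw with hw | hw
      · have := hback _ _ hw
        rw [mul_one, inv_mul_cancel] at this
        exact (hne i).1 this
      · have := hback _ _ hw
        rw [mul_neg, mul_one, neg_mul, inv_mul_cancel] at this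
        exact (hne i).2 this
    · refine ⟨j, ?_⟩
      rcases hw with hw | hw <;> rcases hj with hj | hj
      · left; rw [hw, hj]
      · right; rw [hw, hj]
      · right; rw [hw, hj]
      · left; rw [hw, hj, neg_neg]
  choose f hf using hex
  have hfinj : Function.Injective f := by
    intro i i' hii
    apply hinj
    have h1 := hf i
    have h2' := hf i'
    rw [hii] at h1
    -- `y E_i y⁻¹ = ± y E_i' y⁻¹`
    have h3 : y * ext5 S i * y⁻¹ = y * ext5 S i' * y⁻¹ ∨
        y * ext5 S i * y⁻¹ = -(y * ext5 S i' * y⁻¹) := by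
      rcases h1 with h1 | h1 <;> rcases h2' with h2' | h2'
      · left; rw [h1, h2']
      · right; rw [h1, h2', neg_neg]
      · right; rw [h1, h2']
      · left; rw [h1, h2']
    rcases h3 with h3 | h3
    · left
      have := hback _ _ h3
      rw [this]; group
    · right
      rw [← conj_neg_GL] at h3
      have := hback _ _ h3
      rw [this]; group
  have hfbij : Function.Bijective f := Finite.injective_iff_bijective.1 hfinj
  exact ⟨Equiv.ofBijective f hfbij, fun i => hf i⟩

end Cfsg.Agent.Helper43.XS.P59a
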