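import Mathlib
import Cfsg.Agent.Helper43.XS.Leaves

/-!
(piece written by helper24 for helper43's S6002 farm; copied here unchanged except for the namespace)
# (A1p) for S6002: if `y` permutes the five involutions up to sign by `σ` and `y ^ n = 1`
then `σ ^ n = 1`
-/

set_option autoImplicit false
set_option linter.unusedSectionVars false
set_option linter.unusedVariables false

namespace Cfsg.Agent.Helper43.XS.P24p

open Matrix Cfsg Cfsg.Geo Cfsg.Agent.Helper43.XS

variable {F : Type*} [Field F]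

local notation "Mat" => Matrix (Fin 2 ⊕ Fin 2) (Fin 2 ⊕ Fin 2) F
local notation "GLn" => GL (Fin 2 ⊕ Fin 2) F
local notation "Vec" => (Fin 2 ⊕ Fin 2 → F)

/-- iterating the signed permutation action -/
theorem conj_pow_ext5 {S : Fin 4 → GLn} (y : GLn) (σ : Equiv.Perm (Fin 5))
    (hσ : ∀ i, y * ext5 S i * y⁻¹ = ext5 S (σ i) ∨ y * ext5 S i * y⁻¹ = -ext5 S (σ i))
    (n : ℕ) (i : Fin 5) :
    y ^ n * ext5 S i * (y ^ n)⁻¹ = ext5 S ((σ ^ n) i) ∨
      y ^ n * ext5 S i * (y ^ n)⁻¹ = -ext5 S ((σ ^ n) i) := by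
  induction n with
  | zero => left; simp
  | succ n ih =>
    have hstep : y ^ (n + 1) * ext5 S i * (y ^ (n + 1))⁻¹ =
        y * (y ^ n * ext5 S i * (y ^ n)⁻¹) * y⁻¹ := by
      rw [pow_succ']
      simp only [_root_.mul_inv_rev, mul_assoc]
    have hperm : (σ ^ (n + 1)) i = σ ((σ ^ n) i) := by
      rw [pow_succ', Equiv.Perm.mul_apply]
    rw [hstep, hperm]
    rcases ih with h | h
    · rw [h]
      exact hσ _
    · rw [h]
      have hneg : y * -ext5 S ((σ ^ n) i) * y⁻¹ = -(y * ext5 S ((σ ^ n) i) * y⁻¹) := by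
        rw [mul_neg, neg_mul]
      rw [hneg]
      rcases hσ ((σ ^ n) i) with h' | h'
      · right; rw [h']
      · left; rw [h', neg_neg]

/-- (A1p) if `y` permutes the five up to sign by `σ` and `y ^ n = 1` then `σ ^ n = 1` -/
theorem perm_pow_eq_one (h2 : (2 : F) ≠ 0) {S : Fin 4 → GLn} (hS : IsFrame S) (y : GLn)
    (σ : Equiv.Perm (Fin 5))
    (hσ : ∀ i, y * ext5 S i * y⁻¹ = ext5 S (σ i) ∨ y * ext5 S i * y⁻¹ = -ext5 S (σ i))
    (n : ℕ) (hn : y ^ n = 1) : σ ^ n = 1 := by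
  ext i
  have h := conj_pow_ext5 y σ hσ n i
  rw [hn] at h
  simp only [one_mul, inv_one, mul_one] at h
  have := (ext5_injective h2 hS).1 i ((σ ^ n) i) h
  rw [Equiv.Perm.one_apply, ← this]

end Cfsg.Agent.Helper43.XS.P24p
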