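import Mathlib
import Cfsg.Agent.Helper43.XS.Leaves
import Cfsg.Agent.Helper43.EF.Small

/-!
(piece written by helper59 for helper43's S6002 farm; copied here unchanged except for the namespace)
# S6002 piece (L4) for helper43: an element of order 5 of `Sp_4` normalising the group of a
symplectic frame (helper59)
-/

set_option autoImplicit false
set_option linter.unusedSectionVars false
set_option linter.unusedVariables false

namespace Cfsg.Agent.Helper43.XS.P59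

open Matrix Cfsg Cfsg.Geo Cfsg.Agent.Helper43.XS

variable {F : Type*} [Field F]

local notation "Mat" => Matrix (Fin 2 ⊕ Fin 2) (Fin 2 ⊕ Fin 2) F
local notation "GLn" => GL (Fin 2 ⊕ Fin 2) F
local notation "Vec" => (Fin 2 ⊕ Fin 2 → F)

/-- the sign computation `S₁S₂S₃(S₀S₁S₂S₃) = S₀` -/
theorem frame_cycle_last {S : Fin 4 → GLn} (hS : IsFrame S) :
    S 1 * S 2 * S 3 * S5 S = S 0 := by
  have a0 := hS.sq 0
  have a1 := hS.sq 1
  have a2 := hS.sq 2
  have a3 := hS.sq 3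
  have h10 : S 1 * S 0 = -(S 0 * S 1) := hS.anti 1 0 (by decide)
  have h20 : S 2 * S 0 = -(S 0 * S 2) := hS.anti 2 0 (by decide)
  have h30 : S 3 * S 0 = -(S 0 * S 3) := hS.anti 3 0 (by decide)
  have h21 : S 2 * S 1 = -(S 1 * S 2) := hS.anti 2 1 (by decide)
  have h31 : S 3 * S 1 = -(S 1 * S 3) := hS.anti 3 1 (by decide)
  have h32 : S 3 * S 2 = -(S 2 * S 3) := hS.anti 3 2 (by decide)
  have t10 : ∀ t : GLn, S 1 * (S 0 * t) = -(S 0 * (S 1 * t)) := fun t => by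
    rw [← mul_assoc, h10, neg_mul, mul_assoc]
  have t20 : ∀ t : GLn, S 2 * (S 0 * t) = -(S 0 * (S 2 * t)) := fun t => by
    rw [← mul_assoc, h20, neg_mul, mul_assoc]
  have t30 : ∀ t : GLn, S 3 * (S 0 * t) = -(S 0 * (S 3 * t)) := fun t => by
    rw [← mul_assoc, h30, neg_mul, mul_assoc]
  have t21 : ∀ t : GLn, S 2 * (S 1 * t) = -(S 1 * (S 2 * t)) := fun t => by
    rw [← mul_assoc, h21, neg_mul, mul_assoc]
  have t31 : ∀ t : GLn, S 3 * (S 1 * t) = -(S 1 * (S 3 * t)) := fun t => by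
    rw [← mul_assoc, h31, neg_mul, mul_assoc]
  have t32 : ∀ t : GLn, S 3 * (S 2 * t) = -(S 2 * (S 3 * t)) := fun t => by
    rw [← mul_assoc, h32, neg_mul, mul_assoc]
  have s0 : ∀ t : GLn, S 0 * (S 0 * t) = t := fun t => by rw [← mul_assoc, a0, one_mul]
  have s1 : ∀ t : GLn, S 1 * (S 1 * t) = t := fun t => by rw [← mul_assoc, a1, one_mul]
  have s2 : ∀ t : GLn, S 2 * (S 2 * t) = t := fun t => by rw [← mul_assoc, a2, one_mul]
  have s3 : ∀ t : GLn, S 3 * (S 3 * t) = t := fun t => by rw [← mul_assoc, a3, one_mul]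
  unfold S5
  simp only [mul_assoc, t10, t20, t30, t21, t31, t32, a1, a2, a3, mul_neg, neg_neg, mul_one]

/-- the central scalar units -/
def scalarGL (a : F) (ha : a ≠ 0) : GLn :=
  ⟨a • (1 : Mat), a⁻¹ • (1 : Mat), by
    rw [Matrix.smul_mul, Matrix.mul_smul, Matrix.mul_one, smul_smul, mul_inv_cancel₀ ha, one_smul],
    by
    rw [Matrix.smul_mul, Matrix.mul_smul, Matrix.mul_one, smul_smul, inv_mul_cancel₀ ha, one_smul]⟩

theorem scalarGL_comm (a : F) (ha : a ≠ 0) (h : GLn) : scalarGL a ha * h = h * scalarGL a ha := by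
  apply Units.ext
  simp [scalarGL, Units.val_mul]

theorem scalarGL_mul_val (a : F) (ha : a ≠ 0) (h : GLn) :
    ((scalarGL a ha * h : GLn) : Mat) = a • (h : Mat) := by
  simp [scalarGL, Units.val_mul]

theorem conj_scalarGL_mul (a : F) (ha : a ≠ 0) (g h : GLn) :
    (scalarGL a ha * g) * h * (scalarGL a ha * g)⁻¹ = g * h * g⁻¹ := by
  have hc := scalarGL_comm a ha
  calc (scalarGL a ha * g) * h * (scalarGL a ha * g)⁻¹
      = scalarGL a ha * (g * h * g⁻¹) * (scalarGL a ha)⁻¹ := by group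
    _ = (g * h * g⁻¹) * scalarGL a ha * (scalarGL a ha)⁻¹ := by rw [hc]
    _ = g * h * g⁻¹ := by group

/-- (L4) an element of order 5 of `Sp_4` normalising the group of a symplectic frame -/
theorem exists_five (h2 : (2 : F) ≠ 0) {S : Fin 4 → GLn} (hS : IsFrame S)
    (hSp : ∀ i, S i ∈ Cfsg.spGL 2 F) :
    ∃ y ∈ Cfsg.spGL 2 F, y ^ 5 = 1 ∧ y ≠ 1 ∧
      ∀ i : Fin 4, ∃ j : Fin 5, y * S i * y⁻¹ = ext5 S j := by
  obtain ⟨h5sq, h5anti⟩ := five_of_frame hS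
  obtain ⟨hinj, hne⟩ := ext5_injective h2 hS
  -- the shifted frame
  set S' : Fin 4 → GLn := fun i => ext5 S i.succ with hS'def
  have hS' : IsFrame S' :=
    ⟨fun i => h5sq i.succ, fun i j hij => h5anti i.succ j.succ (fun h => hij (Fin.succ_injective _ h))⟩
  have hS5mem : S5 S ∈ Cfsg.spGL 2 F :=
    (Cfsg.spGL 2 F).mul_mem ((Cfsg.spGL 2 F).mul_mem ((Cfsg.spGL 2 F).mul_mem (hSp 0) (hSp 1))
      (hSp 2)) (hSp 3)
  have e0 : S' 0 = S 1 := ext5_one S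
  have e1 : S' 1 = S 2 := ext5_two S
  have e2 : S' 2 = S 3 := ext5_three S
  have e3 : S' 3 = S5 S := ext5_four S
  have hSp' : ∀ i, S' i ∈ Cfsg.spGL 2 F := by
    intro i
    fin_cases i
    · show S' 0 ∈ _; rw [e0]; exact hSp 1
    · show S' 1 ∈ _; rw [e1]; exact hSp 2
    · show S' 2 ∈ _; rw [e2]; exact hSp 3
    · show S' 3 ∈ _; rw [e3]; exact hS5mem
  obtain ⟨g, hg⟩ := exists_conj_frames h2 hS hS'
  have hg0 : g * S 0 * g⁻¹ = S 1 := by rw [hg 0, e0]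
  have hg1 : g * S 1 * g⁻¹ = S 2 := by rw [hg 1, e1]
  have hg2 : g * S 2 * g⁻¹ = S 3 := by rw [hg 2, e2]
  have hg3 : g * S 3 * g⁻¹ = S5 S := by rw [hg 3, e3]
  have hg4 : g * S5 S * g⁻¹ = S 0 := by
    have : g * S5 S * g⁻¹ =
        (g * S 0 * g⁻¹) * (g * S 1 * g⁻¹) * (g * S 2 * g⁻¹) * (g * S 3 * g⁻¹) := by
      unfold S5; group
    rw [this, hg0, hg1, hg2, hg3]
    exact frame_cycle_last hS
  -- `g ^ 5` is a scalar
  have hexp5 : ∀ h : GLn, g ^ 5 * h * (g ^ 5)⁻¹ =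
      g * (g * (g * (g * (g * h * g⁻¹) * g⁻¹) * g⁻¹) * g⁻¹) * g⁻¹ := by
    intro h
    have p5 : g ^ 5 = g * (g * (g * (g * g))) := by
      simp only [pow_succ, pow_zero, one_mul, mul_assoc]
    rw [p5]; simp only [_root_.mul_inv_rev, mul_assoc]
  have hcomm5 : ∀ i, g ^ 5 * S i = S i * g ^ 5 := by
    intro i
    have : g ^ 5 * S i * (g ^ 5)⁻¹ = S i := by
      rw [hexp5]
      fin_cases i
      · show g * (g * (g * (g * (g * S 0 * g⁻¹) * g⁻¹) * g⁻¹) * g⁻¹) * g⁻¹ = S 0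
        rw [hg0, hg1, hg2, hg3, hg4]
      · show g * (g * (g * (g * (g * S 1 * g⁻¹) * g⁻¹) * g⁻¹) * g⁻¹) * g⁻¹ = S 1
        rw [hg1, hg2, hg3, hg4, hg0]
      · show g * (g * (g * (g * (g * S 2 * g⁻¹) * g⁻¹) * g⁻¹) * g⁻¹) * g⁻¹ = S 2
        rw [hg2, hg3, hg4, hg0, hg1]
      · show g * (g * (g * (g * (g * S 3 * g⁻¹) * g⁻¹) * g⁻¹) * g⁻¹) * g⁻¹ = S 3
        rw [hg3, hg4, hg0, hg1, hg2]
    calc g ^ 5 * S i = g ^ 5 * S i * (g ^ 5)⁻¹ * g ^ 5 := by group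
      _ = S i * g ^ 5 := by rw [this]
  obtain ⟨μ, hμ⟩ := scalar_of_commute_frame h2 hS ((g ^ 5 : GLn) : Mat) (fun i => by
    have := congrArg Units.val (hcomm5 i)
    simpa [Units.val_mul] using this)
  have hμ0 : μ ≠ 0 := by
    rintro rfl
    rw [zero_smul] at hμ
    have h1 : ((g ^ 5 : GLn) : Mat) * (((g ^ 5)⁻¹ : GLn) : Mat) = 1 := by
      rw [← Units.val_mul, mul_inv_cancel, Units.val_one]
    rw [hμ, Matrix.zero_mul] at h1
    exact zero_ne_one h1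
  -- the multiplier
  obtain ⟨c, hc0, hc⟩ := exists_multiplier h2 hS hSp hSp' g hg
  have hpow5 : ((g ^ 5 : GLn) : Mat) = (g : Mat) * ((g : Mat) * ((g : Mat) * ((g : Mat) * (g : Mat)))) := by
    rw [Units.val_pow_eq_pow_val]
    simp only [pow_succ, pow_zero, one_mul, Matrix.mul_assoc]
  have hc5 : c ^ 5 = μ * μ := by
    have h1 := hpow5
    have key : Cfsg.sympForm 2 F (((g ^ 5 : GLn) : Mat) *ᵥ (Pi.single (Sum.inr 0) 1))
        (((g ^ 5 : GLn) : Mat) *ᵥ (Pi.single (Sum.inl 0) 1)) =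
        c ^ 5 * Cfsg.sympForm 2 F (Pi.single (Sum.inr 0) 1) (Pi.single (Sum.inl 0) 1) := by
      rw [hpow5]
      simp only [← Matrix.mulVec_mulVec]
      rw [hc, hc, hc, hc, hc]
      ring
    rw [hμ] at key
    simp only [Matrix.smul_mulVec, Matrix.one_mulVec, Cfsg.Agent.Helper13.sympForm_smul_left,
      Cfsg.Agent.Helper13.sympForm_smul_right, Cfsg.Agent.Helper13.sympForm_single_inl_right,
      Pi.single_eq_same, mul_one, Pi.smul_apply, smul_eq_mul] at key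
    rw [← key]
  -- the corrected element
  have ha0 : c ^ 2 / μ ≠ 0 := div_ne_zero (pow_ne_zero _ hc0) hμ0
  set a : F := c ^ 2 / μ with ha
  have hac : a * a * c = 1 := by
    rw [ha]
    field_simp
    rw [pow_two μ]; exact hc5
  set g' : GLn := scalarGL a ha0 * g with hg'
  have hconj : ∀ h : GLn, g' * h * g'⁻¹ = g * h * g⁻¹ := fun h => conj_scalarGL_mul a ha0 g h
  have hg'val : (g' : Mat) = a • (g : Mat) := scalarGL_mul_val a ha0 g
  have hg'Sp : g' ∈ Cfsg.spGL 2 F := by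
    rw [Cfsg.Agent.Helper13.mem_spGL_iff]
    intro u v
    rw [hg'val]
    simp only [Matrix.smul_mulVec, Cfsg.Agent.Helper13.sympForm_smul_left,
      Cfsg.Agent.Helper13.sympForm_smul_right]
    rw [hc, ← mul_assoc, ← mul_assoc, hac, one_mul]
  -- `g' ^ 5` is `±1`
  have hg'5 : ((g' ^ 5 : GLn) : Mat) = (a ^ 5 * μ) • (1 : Mat) := by
    have h1 : g' ^ 5 = scalarGL a ha0 ^ 5 * g ^ 5 :=
      (show Commute (scalarGL a ha0) g from scalarGL_comm a ha0 g).mul_pow 5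
    rw [h1, Units.val_mul, hμ, Units.val_pow_eq_pow_val]
    simp only [scalarGL]
    rw [smul_pow, one_pow, Matrix.smul_mul, Matrix.one_mul, smul_smul]
  have hν := Cfsg.Agent.Helper43.EF.scalar_sq_of_mem (d := 2) (by norm_num)
    ((Cfsg.spGL 2 F).pow_mem hg'Sp 5) hg'5
  have hνsq : (a ^ 5 * μ) * (a ^ 5 * μ) = 1 := by
    rcases hν with h | h <;> rw [h] <;> ring
  refine ⟨g' ^ 2, (Cfsg.spGL 2 F).pow_mem hg'Sp 2, ?_, ?_, ?_⟩
  · have : (g' ^ 2) ^ 5 = g' ^ 5 * g' ^ 5 := by group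
    rw [this]
    apply Units.ext
    rw [Units.val_mul, hg'5, Matrix.smul_mul, Matrix.mul_smul, Matrix.mul_one, smul_smul, hνsq,
      one_smul, Units.val_one]
  · intro h1
    have h3 : g' ^ 2 * S 0 * (g' ^ 2)⁻¹ = S 2 := by
      have : g' ^ 2 * S 0 * (g' ^ 2)⁻¹ = g' * (g' * S 0 * g'⁻¹) * g'⁻¹ := by
        rw [pow_two, _root_.mul_inv_rev]; simp only [mul_assoc]
      rw [this, hconj, hconj, hg0, hg1]
    rw [h1, one_mul, inv_one, mul_one] at h3
    have h4 : ext5 S 0 = ext5 S 2 := by rw [ext5_zero, ext5_two]; exact h3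
    have := hinj 0 2 (Or.inl h4)
    exact absurd this (by decide)
  · have hy : ∀ h : GLn, g' ^ 2 * h * (g' ^ 2)⁻¹ = g * (g * h * g⁻¹) * g⁻¹ := by
      intro h
      have : g' ^ 2 * h * (g' ^ 2)⁻¹ = g' * (g' * h * g'⁻¹) * g'⁻¹ := by
        rw [pow_two, _root_.mul_inv_rev]; simp only [mul_assoc]
      rw [this, hconj, hconj]
    intro i
    fin_cases i
    · exact ⟨2, by show g' ^ 2 * S 0 * (g' ^ 2)⁻¹ = _; rw [hy, hg0, hg1, ext5_two]⟩
    · exact ⟨3, by show g' ^ 2 * S 1 * (g' ^ 2)⁻¹ = _; rw [hy, hg1, hg2, ext5_three]⟩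
    · exact ⟨4, by show g' ^ 2 * S 2 * (g' ^ 2)⁻¹ = _; rw [hy, hg2, hg3, ext5_four]⟩
    · exact ⟨0, by show g' ^ 2 * S 3 * (g' ^ 2)⁻¹ = _; rw [hy, hg3, hg4, ext5_zero]⟩

end Cfsg.Agent.Helper43.XS.P59
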