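import Mathlib
import Cfsg.Agent.Helper43.XS.Leaves
import Cfsg.Agent.Helper43.XS.PL4
import Cfsg.Agent.Helper43.XS.PA1
import Cfsg.Agent.Helper43.XS.PA1p

/-!
# S6002: leaf pieces (`XS/Leaves.lean`) and the layer-1 pieces (L4), (A1), (A1p)

(The module keeps the name of the original skeleton: the layer-2 pieces import it.)
-/

set_option autoImplicit false
set_option linter.unusedSectionVars false
set_option linter.unusedVariables false

namespace Cfsg.Agent.Helper43.XS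

open Matrix Cfsg Cfsg.Geo

variable {F : Type*} [Field F]

local notation "Mat" => Matrix (Fin 2 ⊕ Fin 2) (Fin 2 ⊕ Fin 2) F
local notation "GLn" => GL (Fin 2 ⊕ Fin 2) F
local notation "Vec" => (Fin 2 ⊕ Fin 2 → F)

/-- (L4) an element of order 5 of `Sp_4` normalising the group of a symplectic frame -/
theorem exists_five (h2 : (2 : F) ≠ 0) {S : Fin 4 → GLn} (hS : IsFrame S)
    (hSp : ∀ i, S i ∈ Cfsg.spGL 2 F) :
    ∃ y ∈ Cfsg.spGL 2 F, y ^ 5 = 1 ∧ y ≠ 1 ∧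
      ∀ i : Fin 4, ∃ j : Fin 5, y * S i * y⁻¹ = ext5 S j :=
  Cfsg.Agent.Helper43.XS.P59.exists_five h2 hS hSp

/-- (A1) an element of the normaliser permutes the five involutions up to sign -/
theorem exists_perm (h2 : (2 : F) ≠ 0) {S : Fin 4 → GLn} (hS : IsFrame S)
    (R : Subgroup GLn) (hSR : ∀ i, S i ∈ R) (hR5 : Nat.card R = 2 ^ 5)
    (y : GLn) (hy : y ∈ Cfsg.Geo.subgroupNormalizer R) :
    ∃ σ : Equiv.Perm (Fin 5), ∀ i,
      y * ext5 S i * y⁻¹ = ext5 S (σ i) ∨ y * ext5 S i * y⁻¹ = -ext5 S (σ i) :=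
  Cfsg.Agent.Helper43.XS.P59a.exists_perm h2 hS R hSR hR5 y hy

/-- (A1p) if `y` permutes the five up to sign by `σ` and `y ^ n = 1` then `σ ^ n = 1` -/
theorem perm_pow_eq_one (h2 : (2 : F) ≠ 0) {S : Fin 4 → GLn} (hS : IsFrame S) (y : GLn)
    (σ : Equiv.Perm (Fin 5))
    (hσ : ∀ i, y * ext5 S i * y⁻¹ = ext5 S (σ i) ∨ y * ext5 S i * y⁻¹ = -ext5 S (σ i))
    (n : ℕ) (hn : y ^ n = 1) : σ ^ n = 1 :=
  Cfsg.Agent.Helper43.XS.P24p.perm_pow_eq_one h2 hS y σ hσ n hn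

end Cfsg.Agent.Helper43.XS
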