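import Mathlib
import Cfsg.Agent.Helper43.XS.Skel

/-!
(piece written by helper59 for helper43's S6002 farm; copied here unchanged except for the namespace)
# S6002 piece (D3) for helper43: a derangement of order 3 (helper59)
-/

set_option autoImplicit false
set_option linter.unusedSectionVars false
set_option linter.unusedVariables false

namespace Cfsg.Agent.Helper43.XS.P59d

open Matrix Cfsg Cfsg.Geo Cfsg.Agent.Helper43.XS

variable {F : Type*} [Field F]

local notation "Mat" => Matrix (Fin 2 ⊕ Fin 2) (Fin 2 ⊕ Fin 2) F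
local notation "GLn" => GL (Fin 2 ⊕ Fin 2) F
local notation "Vec" => (Fin 2 ⊕ Fin 2 → F)

/-- (D3) a derangement of order 3 -/
theorem derangement_three (h2 : (2 : F) ≠ 0) {S : Fin 4 → GLn} (hS : IsFrame S)
    (R : Subgroup GLn) (hSR : ∀ i, S i ∈ R) (hR5 : Nat.card R = 2 ^ 5) :
    ∃ x ∈ Cfsg.spGL 2 F, x ^ 3 = 1 ∧ (∀ z : F, (x : Mat) ≠ z • (1 : Mat)) ∧
      ∀ g : GLn, g⁻¹ * x * g ∉ Cfsg.Geo.subgroupNormalizer R := by
  obtain ⟨x, hxSp, hx3, hxns, hxq⟩ := exists_x3 (F := F) h2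
  refine ⟨x, hxSp, hx3, hxns, ?_⟩
  intro g hy
  apply hxq
  set y : GLn := g⁻¹ * x * g with hy_def
  have hy3 : y ^ 3 = 1 := by
    have : y ^ 3 = g⁻¹ * x ^ 3 * g := by
      rw [hy_def, pow_succ, pow_two, pow_succ, pow_two]
      simp only [mul_assoc, mul_inv_cancel_left]
    rw [this, hx3]; group
  obtain ⟨σ, hσ⟩ := exists_perm h2 hS R hSR hR5 y hy
  have hσ3 : σ ^ 3 = 1 := perm_pow_eq_one h2 hS y σ hσ 3 hy3
  obtain ⟨i, j, hij, hi, hj⟩ := perm_cube σ hσ3
  obtain ⟨h5sq, h5anti⟩ := five_of_frame hS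
  have hci : y * ext5 S i = ext5 S i * y := by
    have := hσ i
    rw [hi] at this
    exact commute_of_fixed y this 3 (by decide) hy3 h2
  have hcj : y * ext5 S j = ext5 S j * y := by
    have := hσ j
    rw [hj] at this
    exact commute_of_fixed y this 3 (by decide) hy3 h2
  obtain ⟨⟨α, β, hαβ⟩, hev⟩ :=
    quadratic_of_commute h2 (h5sq i) (h5sq j) (h5anti i j hij) y hci hcj
  -- transfer to `x = g y g⁻¹`
  have hx : x = g * y * g⁻¹ := by rw [hy_def]; group
  have hxM : (x : Mat) = (g : Mat) * (y : Mat) * ((g⁻¹ : GLn) : Mat) := by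
    rw [hx]; simp [Units.val_mul]
  have hgg : ((g⁻¹ : GLn) : Mat) * (g : Mat) = 1 := by
    rw [← Units.val_mul, inv_mul_cancel, Units.val_one]
  have hgg' : (g : Mat) * ((g⁻¹ : GLn) : Mat) = 1 := by
    rw [← Units.val_mul, mul_inv_cancel, Units.val_one]
  constructor
  · refine ⟨α, β, ?_⟩
    calc (x : Mat) * (x : Mat)
        = (g : Mat) * ((y : Mat) * (((g⁻¹ : GLn) : Mat) * (g : Mat)) * (y : Mat)) *
            ((g⁻¹ : GLn) : Mat) := by rw [hxM]; simp only [Matrix.mul_assoc]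
      _ = (g : Mat) * ((y : Mat) * (y : Mat)) * ((g⁻¹ : GLn) : Mat) := by
          rw [hgg, Matrix.mul_one]
      _ = α • (x : Mat) + β • (1 : Mat) := by
          rw [hαβ, hxM, Matrix.mul_add, Matrix.add_mul, Matrix.mul_smul, Matrix.smul_mul,
            Matrix.mul_smul, Matrix.smul_mul, Matrix.mul_one, hgg']
  · have hsub : (x : Mat) - 1 = (g : Mat) * ((y : Mat) - 1) * ((g⁻¹ : GLn) : Mat) := by
      rw [Matrix.mul_sub, Matrix.sub_mul, Matrix.mul_one, hgg', hxM]
    have hdet1 : IsUnit ((g : Mat)).det := by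
      have := (Matrix.isUnit_iff_isUnit_det (g : Mat)).1 ⟨g, rfl⟩
      exact this
    have hdet2 : IsUnit (((g⁻¹ : GLn) : Mat)).det := by
      have := (Matrix.isUnit_iff_isUnit_det ((g⁻¹ : GLn) : Mat)).1 ⟨g⁻¹, rfl⟩
      exact this
    rw [hsub, Matrix.rank_mul_eq_left_of_isUnit_det _ _ hdet2,
      Matrix.rank_mul_eq_right_of_isUnit_det _ _ hdet1]
    exact hev

end Cfsg.Agent.Helper43.XS.P59d
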