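import Cfsg.Agent.Helper43.XS.Skel

/-!
(piece written by helper65 for helper43's S6002 farm; copied here unchanged except for the namespace)
# (D5) of #8592 for helper43's S6002: a derangement of order 5
-/

set_option autoImplicit false
set_option linter.unusedSectionVars false
set_option linter.unusedVariables false

namespace Cfsg.Agent.Helper43.XS.P65

open Matrix Cfsg Cfsg.Geo Cfsg.Agent.Helper43.XS

variable {F : Type*} [Field F]

local notation "Mat" => Matrix (Fin 2 ⊕ Fin 2) (Fin 2 ⊕ Fin 2) F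
local notation "GLn" => GL (Fin 2 ⊕ Fin 2) F
local notation "Vec" => (Fin 2 ⊕ Fin 2 → F)

/-- a non-scalar element of order 5 conjugated into the normaliser induces a 5-cycle -/
theorem five_cycle_of_mem (h2 : (2 : F) ≠ 0) {S : Fin 4 → GLn} (hS : IsFrame S)
    (R : Subgroup GLn) (hSR : ∀ i, S i ∈ R) (hR5 : Nat.card R = 2 ^ 5)
    (x : GLn) (hx5 : x ^ 5 = 1) (hns : ∀ z : F, (x : Mat) ≠ z • (1 : Mat)) (g : GLn)
    (hy : g⁻¹ * x * g ∈ Cfsg.Geo.subgroupNormalizer R) :
    ∃ σ : Equiv.Perm (Fin 5), (∀ i, σ i ≠ i) ∧ (∀ i, σ (σ i) ≠ i) ∧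
      ∀ i, (g⁻¹ * x * g) * ext5 S i * (g⁻¹ * x * g)⁻¹ = ext5 S (σ i) ∨
        (g⁻¹ * x * g) * ext5 S i * (g⁻¹ * x * g)⁻¹ = -ext5 S (σ i) := by
  obtain ⟨y, hydef⟩ : ∃ y : GLn, y = g⁻¹ * x * g := ⟨_, rfl⟩
  rw [← hydef] at hy ⊢
  obtain ⟨σ, hσ⟩ := exists_perm h2 hS R hSR hR5 y hy
  have hy5 : y ^ 5 = 1 := by
    have h : y = g⁻¹ * x * g⁻¹⁻¹ := by rw [inv_inv]; exact hydef
    rw [h, conj_pow, hx5, mul_one, mul_inv_cancel]
  have hσ5 : σ ^ 5 = 1 := perm_pow_eq_one h2 hS y σ hσ 5 hy5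
  have hσ1 : σ ≠ 1 := by
    intro h1
    have hcomm : ∀ i : Fin 4, (y : Mat) * (S i : Mat) = (S i : Mat) * (y : Mat) := by
      intro i
      have h := hσ i.castSucc
      rw [h1, Equiv.Perm.one_apply, ext5_castSucc] at h
      have h3 := commute_of_fixed y h 5 ⟨2, rfl⟩ hy5 h2
      have h4 := congrArg (fun u : GLn => (u : Mat)) h3
      simpa using h4
    obtain ⟨c, hc⟩ := scalar_of_commute_frame h2 hS (y : Mat) hcomm
    apply hns c
    have hx : x = g * y * g⁻¹ := by rw [hydef]; group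
    rw [hx, Units.val_mul, Units.val_mul, hc, Matrix.mul_smul, Matrix.mul_one, Matrix.smul_mul,
      ← Units.val_mul, mul_inv_cancel, Units.val_one]
  obtain ⟨h1, h2'⟩ := perm_five σ hσ5 hσ1
  exact ⟨σ, h1, h2', hσ⟩

/-- the embedding of `2 × 2` matrices -/
def emb (u : Matrix (Fin 2) (Fin 2) F) : Mat := embed2 (u 0 0) (u 0 1) (u 1 0) (u 1 1)

theorem emb_mul (u v : Matrix (Fin 2) (Fin 2) F) : emb (u * v) = emb u * emb v := by
  unfold emb
  rw [embed2_mul]
  simp only [Matrix.mul_apply, Fin.sum_univ_two]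

theorem emb_one : emb (1 : Matrix (Fin 2) (Fin 2) F) = 1 := by
  unfold emb
  rw [← embed2_one]
  simp

theorem emb_pow (u : Matrix (Fin 2) (Fin 2) F) (n : ℕ) : emb (u ^ n) = emb u ^ n := by
  induction n with
  | zero => rw [pow_zero, pow_zero, emb_one]
  | succ k ih => rw [pow_succ, pow_succ, emb_mul, ih]

theorem trace_emb (u : Matrix (Fin 2) (Fin 2) F) : Matrix.trace (emb u) = 2 + u.trace := by
  unfold emb embed2
  rw [Matrix.trace, Fintype.sum_sum_type, Matrix.trace_fin_two]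
  simp only [Matrix.diag_apply, Matrix.fromBlocks_apply₁₁, Matrix.fromBlocks_apply₂₂,
    Fin.sum_univ_two, Matrix.diagonal_apply_eq, Matrix.cons_val_zero, Matrix.cons_val_one]
  ring

theorem emb_injective_one (u : Matrix (Fin 2) (Fin 2) F) (z : F) (h : emb u = z • (1 : Mat)) :
    u = 1 := by
  unfold emb embed2 at h
  have e11 := congrFun (congrFun h (Sum.inl 1)) (Sum.inl 1)
  have e00 := congrFun (congrFun h (Sum.inl 0)) (Sum.inl 0)
  have e01 := congrFun (congrFun h (Sum.inl 0)) (Sum.inr 0)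
  have e10 := congrFun (congrFun h (Sum.inr 0)) (Sum.inl 0)
  have e33 := congrFun (congrFun h (Sum.inr 0)) (Sum.inr 0)
  simp at e11 e00 e01 e10 e33
  subst e11
  ext i j
  fin_cases i <;> fin_cases j <;> simp [e00, e01, e10, e33]

theorem trace_conj (g x : GLn) :
    Matrix.trace ((g⁻¹ * x * g : GLn) : Mat) = Matrix.trace (x : Mat) := by
  rw [Units.val_mul, Matrix.trace_mul_comm, Units.val_mul, ← Matrix.mul_assoc, ← Units.val_mul,
    mul_inv_cancel, Units.val_one, Matrix.one_mul]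

/-- (D5) a derangement of order 5 when `p` does not have order 4 modulo 5 -/
theorem derangement_five [Fintype F] {p : ℕ} [Fact p.Prime] [CharP F p]
    (hF : Fintype.card F = p) (h2 : (2 : F) ≠ 0) {S : Fin 4 → GLn} (hS : IsFrame S)
    (R : Subgroup GLn) (hSR : ∀ i, S i ∈ R) (hR5 : Nat.card R = 2 ^ 5)
    (hord : orderOf (p : ZMod 5) ≠ 4) :
    ∃ x ∈ Cfsg.spGL 2 F, x ^ 5 = 1 ∧ (∀ z : F, (x : Mat) ≠ z • (1 : Mat)) ∧
      ∀ g : GLn, g⁻¹ * x * g ∉ Cfsg.Geo.subgroupNormalizer R := by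
  classical
  obtain ⟨hsq, hanti⟩ := five_of_frame hS
  by_cases hp5 : p = 5
  · subst hp5
    obtain ⟨x, hxSp, hx5, hns, hrank⟩ := exists_x5_char (F := F)
    refine ⟨x, hxSp, hx5, hns, ?_⟩
    intro g hy
    obtain ⟨σ, hσ1, hσ2, hσ⟩ := five_cycle_of_mem h2 hS R hSR hR5 x hx5 hns g hy
    have hrk : (((g⁻¹ * x * g : GLn) : Mat) - 1).rank ≤ 1 := by
      have h : ((g⁻¹ * x * g : GLn) : Mat) - 1 =
          ((g⁻¹ : GLn) : Mat) * ((x : Mat) - 1) * (g : Mat) := by
        rw [Units.val_mul, Units.val_mul, Matrix.mul_sub, Matrix.sub_mul, Matrix.mul_one,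
          ← Units.val_mul g⁻¹ g, inv_mul_cancel, Units.val_one]
      rw [h, Matrix.rank_mul_eq_left_of_isUnit_det _ _ (Matrix.isUnits_det_units g),
        Matrix.rank_mul_eq_right_of_isUnit_det _ _ (Matrix.isUnits_det_units g⁻¹)]
      exact hrank
    exact false_of_rank_le_one h2 (hsq 0) (hsq (σ 0)) (hanti 0 (σ 0) (hσ1 0).symm)
      (g⁻¹ * x * g) hrk (hσ 0)
  · have hp : p.Prime := Fact.out
    have h5d : 5 ∣ p ^ 2 - 1 := (ord_five_cases hp hord).resolve_left hp5
    have h5 : (5 : F) ≠ 0 := by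
      intro h
      have h' : ((5 : ℕ) : F) = 0 := by exact_mod_cast h
      rw [CharP.cast_eq_zero_iff F p 5] at h'
      rcases (Nat.dvd_prime Nat.prime_five).1 h' with h1 | h1
      · exact hp.one_lt.ne' h1
      · exact hp5 h1
    obtain ⟨u, hdet, hu5, hu1⟩ := exists_sl2_five (F := F) hF h5d
    have hinv1 : emb u * emb (Matrix.adjugate u) = 1 := by
      rw [← emb_mul, Matrix.mul_adjugate, hdet, one_smul, emb_one]
    have hinv2 : emb (Matrix.adjugate u) * emb u = 1 := by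
      rw [← emb_mul, Matrix.adjugate_mul, hdet, one_smul, emb_one]
    let x : GLn := ⟨emb u, emb (Matrix.adjugate u), hinv1, hinv2⟩
    have hxval : (x : Mat) = emb u := rfl
    have hxinv : ((x⁻¹ : GLn) : Mat) = emb (Matrix.adjugate u) := rfl
    have hxSp : x ∈ Cfsg.spGL 2 F := by
      apply embed2_mem (a := u 0 0) (b := u 0 1) (c := u 1 0) (d := u 1 1) hxval
      rw [← hdet, Matrix.det_fin_two]
    have hx5 : x ^ 5 = 1 := by
      apply Units.ext
      rw [Units.val_pow_eq_pow_val, hxval, ← emb_pow, hu5, emb_one, Units.val_one]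
    have hns : ∀ z : F, (x : Mat) ≠ z • (1 : Mat) := by
      intro z hz
      exact hu1 (emb_injective_one u z hz)
    refine ⟨x, hxSp, hx5, hns, ?_⟩
    intro g hy
    obtain ⟨σ, hσ1, hσ2, hσ⟩ := five_cycle_of_mem h2 hS R hSR hR5 x hx5 hns g hy
    have htr := trace_mul_trace h2 hS (g⁻¹ * x * g) σ hσ1 hσ2 hσ
    have hyinv : (g⁻¹ * x * g)⁻¹ = g⁻¹ * x⁻¹ * g := by group
    rw [hyinv, trace_conj, trace_conj, hxval, hxinv, trace_emb, trace_emb] at htr
    have hadj : (Matrix.adjugate u).trace = u.trace := by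
      rw [Matrix.adjugate_fin_two, Matrix.trace_fin_two, Matrix.trace_fin_two]
      simp only [Matrix.of_apply, Matrix.cons_val', Matrix.cons_val_zero, Matrix.cons_val_one,
        Matrix.empty_val', Matrix.cons_val_fin_one]
      ring
    rw [hadj] at htr
    exact false_of_trace_sq h5 u hdet hu5 hu1 htr

end Cfsg.Agent.Helper43.XS.P65
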