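import Mathlib
import Cfsg.Agent.Helper43.XS.Skel
import Cfsg.Agent.Helper43.EF.Small

/-!
(piece written by helper24 for helper43's S6002 farm; copied here unchanged except for the namespace)
# (D7) for S6002: a derangement of prime order `r ∉ {2, 3, 5}`
-/

set_option autoImplicit false
set_option linter.unusedSectionVars false
set_option linter.unusedVariables false

namespace Cfsg.Agent.Helper43.XS.P24d

open Matrix Cfsg Cfsg.Geo Cfsg.Agent.Helper43.XS

variable {F : Type*} [Field F]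

local notation "Mat" => Matrix (Fin 2 ⊕ Fin 2) (Fin 2 ⊕ Fin 2) F
local notation "GLn" => GL (Fin 2 ⊕ Fin 2) F
local notation "Vec" => (Fin 2 ⊕ Fin 2 → F)

/-- a conjugate of a scalar matrix is that scalar matrix -/
theorem scalar_of_conj_scalar (g x : GLn) (c : F)
    (h : ((g⁻¹ * x * g : GLn) : Mat) = c • (1 : Mat)) : (x : Mat) = c • (1 : Mat) := by
  have hx : x = g * (g⁻¹ * x * g) * g⁻¹ := by group
  have hgg : (g : Mat) * ((g⁻¹ : GLn) : Mat) = 1 := by
    rw [← Units.val_mul, mul_inv_cancel, Units.val_one]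
  rw [hx, Units.val_mul, Units.val_mul, h, Matrix.mul_smul, Matrix.mul_one, Matrix.smul_mul, hgg]

/-- (D7) a derangement of prime order `r ∉ {2, 3, 5}` -/
theorem derangement_large [Fintype F] (h2 : (2 : F) ≠ 0) {S : Fin 4 → GLn} (hS : IsFrame S)
    (R : Subgroup GLn) (hSR : ∀ i, S i ∈ R) (hR5 : Nat.card R = 2 ^ 5)
    (r : ℕ) [Fact r.Prime] (hr2 : r ≠ 2) (hr3 : r ≠ 3) (hr5 : r ≠ 5)
    (hdvd : r ∣ Nat.card ↥(Cfsg.spGL 2 F)) :
    ∃ x ∈ Cfsg.spGL 2 F, x ^ r = 1 ∧ (∀ z : F, (x : Mat) ≠ z • (1 : Mat)) ∧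
      ∀ g : GLn, g⁻¹ * x * g ∉ Cfsg.Geo.subgroupNormalizer R := by
  classical
  have hr : r.Prime := Fact.out
  obtain ⟨x0, hx0⟩ := exists_prime_orderOf_dvd_card' (G := ↥(Cfsg.spGL 2 F)) r hdvd
  have hxr0 : x0 ^ r = 1 := by rw [← hx0]; exact pow_orderOf_eq_one x0
  have hxr : (x0 : GLn) ^ r = 1 := by
    have := congrArg (Subtype.val) hxr0
    simpa using this
  have hns : ∀ z : F, ((x0 : GLn) : Mat) ≠ z • (1 : Mat) := by
    intro z hz
    have hz1 := Cfsg.Agent.Helper43.EF.scalar_sq_of_mem (d := 2) (by norm_num) x0.2 hz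
    have hzz : z * z = 1 := by
      rcases hz1 with h | h <;> rw [h] <;> ring
    have hsq : (x0 : GLn) ^ 2 = 1 := by
      apply Units.ext
      rw [pow_two, Units.val_mul, hz, Matrix.smul_mul, Matrix.one_mul, smul_smul, hzz, one_smul,
        Units.val_one]
    have hsq0 : x0 ^ 2 = 1 := by
      apply Subtype.ext
      simpa using hsq
    have hdvd2 : r ∣ 2 := by
      rw [← hx0]; exact orderOf_dvd_of_pow_eq_one hsq0
    rcases (Nat.dvd_prime Nat.prime_two).1 hdvd2 with h | h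
    · exact hr.one_lt.ne' h
    · exact hr2 h
  refine ⟨(x0 : GLn), x0.2, hxr, hns, ?_⟩
  intro g hy
  set y : GLn := g⁻¹ * (x0 : GLn) * g with hydef
  obtain ⟨σ, hσ⟩ := exists_perm h2 hS R hSR hR5 y hy
  have hyr : y ^ r = 1 := by
    have : y ^ r = g⁻¹ * (x0 : GLn) ^ r * g := by
      rw [hydef]
      have hconj : g⁻¹ * (x0 : GLn) * g = (MulAut.conj g⁻¹) (x0 : GLn) := by
        simp
      rw [hconj, ← map_pow, MulAut.conj_apply, inv_inv]
    rw [this, hxr, mul_one, inv_mul_cancel]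
  have hσr : σ ^ r = 1 := perm_pow_eq_one h2 hS y σ hσ r hyr
  have hσ1 : σ = 1 := perm_large σ r hr hr2 hr3 hr5 hσr
  have hodd : Odd r := hr.odd_of_ne_two hr2
  have hcomm : ∀ i : Fin 4, (y : Mat) * (S i : Mat) = (S i : Mat) * (y : Mat) := by
    intro i
    have hi := hσ i.castSucc
    rw [hσ1, Equiv.Perm.one_apply, ext5_castSucc] at hi
    have := commute_of_fixed y hi r hodd hyr h2
    rw [← Units.val_mul, ← Units.val_mul, this]
  obtain ⟨c, hc⟩ := scalar_of_commute_frame h2 hS (y : Mat) hcomm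
  exact hns c (scalar_of_conj_scalar g (x0 : GLn) c hc)

end Cfsg.Agent.Helper43.XS.P24d
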