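import Mathlib
import Cfsg.Agent.Helper43.XS.Skel
import Cfsg.Agent.Helper43.EF.Small

/-!
(piece written by helper55 for helper43's S6002 farm; copied here unchanged except for the namespace)
# S6002 (helper43 WANTED #8592), layer-2 piece (E5): `r = 5`, `p` of order 4 modulo 5

Proved against the stubs of `Cfsg.Agent.Helper43.XS.Skel` (`isCyclic_of_five_group`,
`conj_mem_zpowers_of_cyclic`).
-/

set_option autoImplicit false
set_option linter.unusedSectionVars false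
set_option linter.unusedVariables false

namespace Cfsg.Agent.Helper43.XS.P55

open Matrix Cfsg Cfsg.Geo Cfsg.Agent.Helper43.XS

variable {F : Type*} [Field F]

local notation "Mat" => Matrix (Fin 2 ⊕ Fin 2) (Fin 2 ⊕ Fin 2) F
local notation "GLn" => GL (Fin 2 ⊕ Fin 2) F
local notation "Vec" => (Fin 2 ⊕ Fin 2 → F)

theorem neg_one_mem_spGL : (-1 : GLn) ∈ Cfsg.spGL 2 F := by
  rw [Cfsg.Agent.Helper13.mem_spGL_iff]
  intro u v
  have h : ((-1 : GLn) : Mat) = -1 := rfl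
  rw [h, Matrix.neg_mulVec, Matrix.neg_mulVec, Matrix.one_mulVec, Matrix.one_mulVec,
    Cfsg.Agent.Helper13.sympForm_neg_left, Cfsg.Agent.Helper13.sympForm_neg_right, neg_neg]

/-- the core of (E5): an element of order 5 of `Sp_4(p)` is `Sp`-conjugate into `⟨y⟩` -/
theorem conj_of_five_core [Fintype F] {p : ℕ} [Fact p.Prime] [CharP F p]
    (hF : Fintype.card F = p) (hord : orderOf (p : ZMod 5) = 4)
    (y : GLn) (hy : y ∈ Cfsg.spGL 2 F) (hy5 : y ^ 5 = 1) (hy1 : y ≠ 1)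
    (x : GLn) (hx : x ∈ Cfsg.spGL 2 F) (hx5 : x ^ 5 = 1) (hx1 : x ≠ 1) :
    ∃ g ∈ Cfsg.spGL 2 F, g⁻¹ * x * g ∈ Subgroup.zpowers y := by
  classical
  have : Fact (Nat.Prime 5) := ⟨by norm_num⟩
  have : Finite GLn := inferInstance
  have hcyc : ∀ P : Subgroup ↥(Cfsg.spGL 2 F), IsPGroup 5 P → IsCyclic P := by
    intro P hP
    have hinj : Function.Injective (Cfsg.spGL 2 F).subtype := Subgroup.subtype_injective _
    have h1 : IsCyclic ↥(P.map (Cfsg.spGL 2 F).subtype) :=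
      isCyclic_of_five_group hF hord (P.map (Cfsg.spGL 2 F).subtype) (hP.map _)
    let e := Subgroup.equivMapOfInjective P (Cfsg.spGL 2 F).subtype hinj
    exact isCyclic_of_surjective e.symm.toMonoidHom e.symm.surjective
  obtain ⟨g, hg⟩ := conj_mem_zpowers_of_cyclic (G := ↥(Cfsg.spGL 2 F)) 5 hcyc ⟨x, hx⟩ ⟨y, hy⟩
    (Subtype.ext (by rw [SubgroupClass.coe_pow]; exact hx5))
    (fun h => hx1 (congrArg Subtype.val h))
    (Subtype.ext (by rw [SubgroupClass.coe_pow]; exact hy5))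
    (fun h => hy1 (congrArg Subtype.val h))
  obtain ⟨k, hk⟩ := Subgroup.mem_zpowers_iff.mp hg
  refine ⟨g.1, g.2, ?_⟩
  rw [Subgroup.mem_zpowers_iff]
  refine ⟨k, ?_⟩
  have := congrArg Subtype.val hk
  rw [SubgroupClass.coe_zpow] at this
  exact this

/-- (E5) `r = 5`, `p` of order 4 modulo 5: Sylow's theorem -/
theorem conj_of_five [Fintype F] {p : ℕ} [Fact p.Prime] [CharP F p] (hF : Fintype.card F = p)
    (hord : orderOf (p : ZMod 5) = 4) (N : Subgroup GLn) (hneg : (-1 : GLn) ∈ N)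
    (y : GLn) (hy : y ∈ Cfsg.spGL 2 F) (hyN : y ∈ N) (hy5 : y ^ 5 = 1) (hy1 : y ≠ 1)
    (x : GLn) (hx : x ∈ Cfsg.spGL 2 F)
    (hx5 : ∃ z : F, ((x ^ 5 : GLn) : Mat) = z • (1 : Mat))
    (hns : ∀ z : F, (x : Mat) ≠ z • (1 : Mat)) :
    ∃ g ∈ Cfsg.spGL 2 F, g⁻¹ * x * g ∈ N := by
  obtain ⟨z, hz⟩ := hx5
  have hzle : Subgroup.zpowers y ≤ N := by
    rw [Subgroup.zpowers_le]; exact hyN
  rcases Cfsg.Agent.Helper43.EF.scalar_sq_of_mem (by norm_num : 1 ≤ 2)
    ((Cfsg.spGL 2 F).pow_mem hx 5) hz with h1 | h1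
  · -- `x ^ 5 = 1`
    have hx5' : x ^ 5 = 1 := by
      apply Units.ext
      rw [hz, h1, one_smul, Units.val_one]
    have hx1 : x ≠ 1 := by
      intro h
      apply hns 1
      rw [h, Units.val_one, one_smul]
    obtain ⟨g, hg, hmem⟩ := conj_of_five_core hF hord y hy hy5 hy1 x hx hx5' hx1
    exact ⟨g, hg, hzle hmem⟩
  · -- `x ^ 5 = -1`
    have hx5' : x ^ 5 = -1 := by
      apply Units.ext
      rw [hz, h1, neg_smul, one_smul]
      rfl
    have hnx5 : (-x) ^ 5 = 1 := by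
      rw [Odd.neg_pow (by decide : Odd 5), hx5', neg_neg]
    have hnx : -x ∈ Cfsg.spGL 2 F := by
      have : -x = (-1 : GLn) * x := by rw [neg_mul, one_mul]
      rw [this]
      exact (Cfsg.spGL 2 F).mul_mem neg_one_mem_spGL hx
    have hnx1 : -x ≠ 1 := by
      intro h
      apply hns (-1)
      have hx' : x = -1 := by rw [← neg_neg x, h]
      rw [hx', neg_smul, one_smul]
      rfl
    obtain ⟨g, hg, hmem⟩ := conj_of_five_core hF hord y hy hy5 hy1 (-x) hnx hnx5 hnx1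
    refine ⟨g, hg, ?_⟩
    have h2 : g⁻¹ * x * g = (-1 : GLn) * (g⁻¹ * (-x) * g) := by
      rw [mul_neg, neg_mul, neg_mul, one_mul, neg_neg]
    rw [h2]
    exact N.mul_mem hneg (hzle hmem)

end Cfsg.Agent.Helper43.XS.P55
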