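import Mathlib
import Cfsg.Agent.Helper43.XS.Skel

/-!
(piece written by helper24 for helper43's S6002 farm; copied here unchanged except for the namespace)
# (N5) for S6002: an element of order 5 of `Sp_4` normalising `R`
-/

set_option autoImplicit false
set_option linter.unusedSectionVars false
set_option linter.unusedVariables false

namespace Cfsg.Agent.Helper43.XS.P24n

open Matrix Cfsg Cfsg.Geo Cfsg.Agent.Helper43.XS

variable {F : Type*} [Field F]

local notation "Mat" => Matrix (Fin 2 ⊕ Fin 2) (Fin 2 ⊕ Fin 2) F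
local notation "GLn" => GL (Fin 2 ⊕ Fin 2) F
local notation "Vec" => (Fin 2 ⊕ Fin 2 → F)

/-- the sixteen products lie in the closure of the frame -/
theorem prodW_mem_closure (S : Fin 4 → GLn) (w : Fin 4 → Bool) :
    prodW S w ∈ Subgroup.closure (Set.range S) := by
  have hmem : ∀ (b : Bool) (i : Fin 4),
      (if b then S i else 1) ∈ Subgroup.closure (Set.range S) := by
    intro b i
    split_ifs
    · exact Subgroup.subset_closure ⟨i, rfl⟩
    · exact one_mem _
  unfold prodW
  exact mul_mem (mul_mem (mul_mem (hmem _ _) (hmem _ _)) (hmem _ _)) (hmem _ _)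

/-- `-1` lies in the closure of a frame -/
theorem neg_one_mem_closure {S : Fin 4 → GLn} (hS : IsFrame S) :
    (-1 : GLn) ∈ Subgroup.closure (Set.range S) := by
  have h01 : S 0 * S 1 = -(S 1 * S 0) := hS.anti 0 1 (by decide)
  have h : (-1 : GLn) = S 0 * S 1 * (S 1 * S 0)⁻¹ := by
    rw [h01, neg_mul, mul_inv_cancel]
  rw [h]
  have hm : ∀ i, S i ∈ Subgroup.closure (Set.range S) := fun i =>
    Subgroup.subset_closure ⟨i, rfl⟩
  exact mul_mem (mul_mem (hm 0) (hm 1)) (inv_mem (mul_mem (hm 1) (hm 0)))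

/-- a group of order 32 containing a frame is generated by it -/
theorem eq_closure_of_frame (h2 : (2 : F) ≠ 0) {S : Fin 4 → GLn} (hS : IsFrame S)
    (R : Subgroup GLn) (hSR : ∀ i, S i ∈ R) (hR5 : Nat.card R = 2 ^ 5) :
    R = Subgroup.closure (Set.range S) := by
  apply le_antisymm
  · intro g hg
    obtain ⟨w, hw | hw⟩ := (mem_iff_of_frame h2 hS R hSR hR5 g).1 hg
    · rw [hw]; exact prodW_mem_closure S w
    · rw [hw, ← neg_one_mul_GL]
      exact mul_mem (neg_one_mem_closure hS) (prodW_mem_closure S w)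
  · rw [Subgroup.closure_le]
    rintro _ ⟨i, rfl⟩
    exact hSR i

/-- (N5) an element of order 5 of `Sp_4` normalising `R` -/
theorem exists_five_normalizer (h2 : (2 : F) ≠ 0) {S : Fin 4 → GLn} (hS : IsFrame S)
    (hSp : ∀ i, S i ∈ Cfsg.spGL 2 F) (R : Subgroup GLn) (hSR : ∀ i, S i ∈ R)
    (hR5 : Nat.card R = 2 ^ 5) :
    ∃ y ∈ Cfsg.spGL 2 F, y ^ 5 = 1 ∧ y ≠ 1 ∧ y ∈ Cfsg.Geo.subgroupNormalizer R := by
  obtain ⟨y, hySp, hy5, hy1, hyS⟩ := exists_five h2 hS hSp
  refine ⟨y, hySp, hy5, hy1, ?_⟩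
  have hRcl := eq_closure_of_frame h2 hS R hSR hR5
  -- the five involutions lie in `R`
  have hext : ∀ j : Fin 5, ext5 S j ∈ R := by
    intro j
    refine Fin.lastCases ?_ (fun i => ?_) j
    · rw [ext5_last]
      unfold S5
      exact mul_mem (mul_mem (mul_mem (hSR 0) (hSR 1)) (hSR 2)) (hSR 3)
    · rw [ext5_castSucc]; exact hSR i
  -- conjugation by `y` maps `R` into `R`
  have hconj : ∀ h ∈ R, y * h * y⁻¹ ∈ R := by
    intro h hh
    have hle : Subgroup.closure (Set.range S) ≤ R.comap (MulAut.conj y).toMonoidHom := by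
      rw [Subgroup.closure_le]
      rintro _ ⟨i, rfl⟩
      obtain ⟨j, hj⟩ := hyS i
      change (MulAut.conj y) (S i) ∈ R
      rw [MulAut.conj_apply, hj]
      exact hext j
    rw [hRcl] at hh
    have := hle hh
    change (MulAut.conj y) h ∈ R at this
    rwa [MulAut.conj_apply] at this
  have hconjpow : ∀ n : ℕ, ∀ h ∈ R, y ^ n * h * (y ^ n)⁻¹ ∈ R := by
    intro n
    induction n with
    | zero => intro h hh; simpa using hh
    | succ n ih =>
      intro h hh
      have : y ^ (n + 1) * h * (y ^ (n + 1))⁻¹ = y * (y ^ n * h * (y ^ n)⁻¹) * y⁻¹ := by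
        rw [pow_succ']
        simp only [_root_.mul_inv_rev, mul_assoc]
      rw [this]
      exact hconj _ (ih h hh)
  have hy4 : y ^ 4 = y⁻¹ := by
    rw [eq_inv_iff_mul_eq_one, ← pow_succ]
    exact hy5
  unfold Cfsg.Geo.subgroupNormalizer
  rw [Subgroup.mem_normalizer_iff]
  intro h
  constructor
  · exact hconj h
  · intro hh
    have := hconjpow 4 _ hh
    rw [hy4, inv_inv] at this
    have heq : y⁻¹ * (y * h * y⁻¹) * y = h := by group
    rwa [heq] at this

end Cfsg.Agent.Helper43.XS.P24n
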