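import Mathlib
import Cfsg.Agent.Helper43.XS.Skel
import Cfsg.Agent.Helper43.XS.PN5
import Cfsg.Agent.Helper43.XS.PD7
import Cfsg.Agent.Helper43.XS.PD3
import Cfsg.Agent.Helper43.XS.PD5
import Cfsg.Agent.Helper65.XSE2
import Cfsg.Agent.Helper43.XS.PE5

/-!
# S6002: assembly
-/

set_option autoImplicit false
set_option linter.unusedSectionVars false
set_option linter.unusedVariables false

namespace Cfsg.Agent.Helper43.XS

open Matrix Cfsg Cfsg.Geo

variable {F : Type*} [Field F]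

local notation "Mat" => Matrix (Fin 2 ⊕ Fin 2) (Fin 2 ⊕ Fin 2) F
local notation "GLn" => GL (Fin 2 ⊕ Fin 2) F

theorem two_ne_zero_of_odd {p : ℕ} [CharP F p] (hodd : Odd p) : (2 : F) ≠ 0 := by
  intro h
  have h' : ((2 : ℕ) : F) = 0 := by exact_mod_cast h
  have hdvd := (CharP.cast_eq_zero_iff F p 2).1 h'
  have hp2 : p = 1 ∨ p = 2 := (Nat.dvd_prime Nat.prime_two).1 hdvd
  rcases hp2 with rfl | rfl
  · exact CharP.char_ne_one F 1 rfl
  · exact (by decide : ¬ Odd 2) hodd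

theorem closure_le_of_frame {S : Fin 4 → GLn} (R : Subgroup GLn) (hSR : ∀ i, S i ∈ R) :
    Subgroup.closure (Set.range S) ≤ R := by
  rw [Subgroup.closure_le]
  rintro _ ⟨i, rfl⟩
  exact hSR i

theorem neg_one_mem_of_frame {S : Fin 4 → GLn} (hS : IsFrame S) (R : Subgroup GLn)
    (hSR : ∀ i, S i ∈ R) : (-1 : GLn) ∈ R := by
  have h : (-1 : GLn) = S 0 * S 1 * (S 1 * S 0)⁻¹ := by
    rw [hS.anti 0 1 (by decide)]
    apply Units.ext
    rw [Units.val_mul, Units.val_neg, Units.val_neg, Units.val_one, neg_mul, ← Units.val_mul,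
      mul_inv_cancel, Units.val_one]
  rw [h]
  exact R.mul_mem (R.mul_mem (hSR 0) (hSR 1)) (R.inv_mem (R.mul_mem (hSR 1) (hSR 0)))

theorem main [Fintype F] {p : ℕ} [Fact p.Prime] [CharP F p] (hF : Fintype.card F = p) (hodd : Odd p)
    (R : Subgroup (GL (Fin 2 ⊕ Fin 2) F)) (hRs : Cfsg.Geo.IsSymplecticTypeGroup 2 R)
    (hRi : Cfsg.Geo.ActsAbsolutelyIrreducibly (Cfsg.Geo.matrixSet R))
    (hRf : R ≤ Cfsg.spGL 2 F) (hR5 : Nat.card R = 2 ^ 5) (hRZ : Nat.card (Subgroup.center R) = 2)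
    (hRm : Cfsg.Geo.IsOfMinusType 2 R)
    (r : ℕ) [Fact r.Prime]
    (hΩ : r ∣ (Cfsg.Geo.subgroupNormalizer R).relIndex (Cfsg.spGL 2 F)) :
    (∀ x ∈ Cfsg.spGL 2 F, (∃ z : F, ((x ^ r : GL (Fin 2 ⊕ Fin 2) F) : Mat) = z • (1 : Mat)) →
      (∀ z : F, (x : Mat) ≠ z • (1 : Mat)) →
      ∃ g ∈ Cfsg.spGL 2 F, g⁻¹ * x * g ∈ Cfsg.Geo.subgroupNormalizer R) ↔
      (r = 2 ∨ (r = 5 ∧ orderOf (p : ZMod 5) = 4)) := by
  classical
  have h2 : (2 : F) ≠ 0 := two_ne_zero_of_odd (p := p) hodd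
  obtain ⟨S, hS, hSR⟩ := exists_frame_of_group h2 R hRs hRi hR5 hRZ hRm
  have hSp : ∀ i, S i ∈ Cfsg.spGL 2 F := fun i => hRf (hSR i)
  have hRN : R ≤ Cfsg.Geo.subgroupNormalizer R := Subgroup.le_normalizer
  constructor
  · intro H
    by_cases hr2 : r = 2
    · exact Or.inl hr2
    by_cases hr3 : r = 3
    · exfalso
      subst hr3
      obtain ⟨x, hx, hx3, hns, hder⟩ := Cfsg.Agent.Helper43.XS.P59d.derangement_three h2 hS R hSR hR5
      obtain ⟨g, _, hg⟩ := H x hx ⟨1, by rw [hx3]; simp⟩ hns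
      exact hder g hg
    by_cases hr5 : r = 5
    · subst hr5
      by_cases hord : orderOf (p : ZMod 5) = 4
      · exact Or.inr ⟨rfl, hord⟩
      · exfalso
        obtain ⟨x, hx, hx5, hns, hder⟩ := Cfsg.Agent.Helper43.XS.P65.derangement_five hF h2 hS R hSR hR5 hord
        obtain ⟨g, _, hg⟩ := H x hx ⟨1, by rw [hx5]; simp⟩ hns
        exact hder g hg
    · exfalso
      have hdvd : r ∣ Nat.card ↥(Cfsg.spGL 2 F) := by
        refine hΩ.trans ?_
        rw [Subgroup.relIndex]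
        exact Subgroup.index_dvd_card _
      obtain ⟨x, hx, hxr, hns, hder⟩ := Cfsg.Agent.Helper43.XS.P24d.derangement_large h2 hS R hSR hR5 r hr2 hr3 hr5 hdvd
      obtain ⟨g, _, hg⟩ := H x hx ⟨1, by rw [hxr]; simp⟩ hns
      exact hder g hg
  · rintro (rfl | ⟨rfl, hord⟩)
    · intro x hx hx2 hns
      obtain ⟨g, hg, hmem⟩ := Cfsg.Agent.Helper65.XS.conj_of_two h2 hS hSp x hx hx2 hns
      exact ⟨g, hg, hRN (closure_le_of_frame R hSR hmem)⟩
    · intro x hx hx5 hns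
      obtain ⟨y, hy, hy5, hy1, hyN⟩ := Cfsg.Agent.Helper43.XS.P24n.exists_five_normalizer h2 hS hSp R hSR hR5
      exact Cfsg.Agent.Helper43.XS.P55.conj_of_five hF hord _ (hRN (neg_one_mem_of_frame hS R hSR)) y hy hyN hy5 hy1 x hx
        hx5 hns

end Cfsg.Agent.Helper43.XS
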